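import Groth.Agent.L20.FixLocus.Purity
import Groth.Agent.L20.FixLocus.MulCover
import Groth.Agent.L02.SchDom.WeilSmooth
import Groth.Agent.L06.PureLocus
import Groth.Agent.L20.RG.PureProj
import Groth.Agent.S12442

/-!
# The fixed locus of an action of a flat group with connected fibres
-/

set_option autoImplicit false
set_option backward.isDefEq.respectTransparency.types false
set_option linter.style.haveILetI false
set_option linter.unusedSectionVars false
universe u

open CategoryTheory CategoryTheory.Limits AlgebraicGeometry MonoidalCategory CartesianMonoidalCategory MonObj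
open Groth.L25 Groth.L02.SchDom

noncomputable section

namespace Groth.L20.FixLocus

/-- the fibre rings of an affine open piece have one associated prime -/
theorem oneAss_fibre {A B : Type u} [CommRing A] [CommRing B] [Algebra A B]
    (G : Over (Spec (CommRingCat.of A))) [GrpObj G] [LocallyOfFiniteType G.hom]
    (hconn : ∀ s : Spec (CommRingCat.of A), _root_.IsConnected (G.hom.base ⁻¹' {s}))
    (jV : Spec (CommRingCat.of B) ⟶ G.left) [IsOpenImmersion jV]
    (hj : jV ≫ G.hom = Spec.map (CommRingCat.ofHom (algebraMap A B)))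
    (hV : ∀ s : Spec (CommRingCat.of A), ∃ z, (jV ≫ G.hom) z = s) (K : Type u) [Field K] [Algebra A K] :
    OneAss (TensorProduct A K B) := by
  let q : Spec (CommRingCat.of K) ⟶ Spec (CommRingCat.of A) := Spec.map (CommRingCat.ofHom (algebraMap A K))
  haveI : LocallyOfFiniteType (Red.bc q G).hom := inferInstanceAs (LocallyOfFiniteType (pullback.snd G.hom q))
  haveI := Groth.L08.Borel.connectedSpace_bc_point G hconn q
  let e : pullback (jV ≫ G.hom) q ≅ Spec (CommRingCat.of (TensorProduct A B K)) :=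
    pullback.congrHom hj rfl ≪≫ pullbackSpecIso A B K
  let m : Spec (CommRingCat.of (TensorProduct A B K)) ⟶ (Red.bc q G).left :=
    e.inv ≫ (pullbackRightPullbackFstIso G.hom q jV).inv ≫ pullback.snd jV (pullback.fst G.hom q)
  obtain ⟨z, hz⟩ := hV (q (IsLocalRing.closedPoint K))
  obtain ⟨w, -⟩ := Scheme.Pullback.exists_preimage_pullback (f := jV ≫ G.hom) (g := q) z _ hz
  haveI : Nontrivial (TensorProduct A B K) :=
    (PrimeSpectrum.nonempty_iff_nontrivial (R := TensorProduct A B K)).1 ⟨e.hom w⟩
  haveI : IsOpenImmersion m := inferInstance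
  exact (oneAss_of_open (Red.bc q G) m).of_ringEquiv (Algebra.TensorProduct.comm A B K).toRingEquiv

variable {S : Scheme.{u}} {G X : Over S} [GrpObj G]

/-- fixing is stable under products -/
theorem fix_mul (a : AlgGrp.Action G X) {T : Over S} (z : T ⟶ X) {g g' : T ⟶ G} (h : lift g z ≫ a.act = z)
    (h' : lift g' z ≫ a.act = z) : lift (g * g') z ≫ a.act = z := by
  have e : lift (g * g') z = lift (lift g g') z ≫ (μ[G] ▷ X) := by
    rw [lift_whiskerRight, Hom.mul_def]
  have e' : lift (lift g g') z ≫ (α_ G G X).hom = lift g (lift g' z) := lift_lift_associator_hom _ _ _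
  rw [e, Category.assoc, a.mul_act, reassoc_of% e', lift_whiskerLeft_assoc, h', h]

variable [Flat G.hom] [LocallyOfFinitePresentation G.hom] [LocallyOfFinitePresentation X.hom]

/-- **the fixed locus is a closed subscheme** -/
theorem exists_fixedLocus (hconn : ∀ s : S, ConnectedSpace (G.hom.fiber s)) (a : AlgGrp.Action G X) :
    ∃ (F : Scheme.{u}) (f : F ⟶ X.left), IsClosedImmersion f ∧ LocallyOfFinitePresentation f ∧
      ∀ (T : Over S) (x : T ⟶ X), (∃ y : T.left ⟶ F, y ≫ f = x.left) ↔
        ∀ (T' : Over S) (t : T' ⟶ T) (g : T' ⟶ G), lift g (t ≫ x) ≫ a.act = t ≫ x := by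
  have hconn' : ∀ s : S, _root_.IsConnected (G.hom.base ⁻¹' {s}) := fun s => by
    haveI := hconn s
    rw [← G.hom.range_fiberι s]
    exact isConnected_range (G.hom.fiberι s).continuous
  let c : G ⊗ X ⟶ X ⊗ X := lift a.act (snd G X)
  let δ : X ⟶ X ⊗ X := lift (𝟙 X) (𝟙 X)
  haveI : IsImmersion δ.left := inferInstanceAs (IsImmersion (pullback.diagonal X.hom))
  haveI : LocallyOfFinitePresentation δ.left := by
    show LocallyOfFinitePresentation (pullback.diagonal X.hom)
    haveI : LocallyOfFinitePresentation (pullback.diagonal X.hom ≫ pullback.fst X.hom X.hom) := by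
      rw [pullback.diagonal_fst]; infer_instance
    exact Groth.Agent.S12442.result (pullback.diagonal X.hom) (pullback.fst X.hom X.hom)
  let y : pullback δ.left c.left ⟶ (G ⊗ X).left := pullback.snd δ.left c.left
  haveI : IsImmersion y := inferInstanceAs (IsImmersion (pullback.snd δ.left c.left))
  haveI : LocallyOfFinitePresentation y := inferInstanceAs (LocallyOfFinitePresentation (pullback.snd δ.left c.left))
  haveI : Mono y := inferInstance
  let f : (G ⊗ X).left ⟶ X.left := (snd G X).left
  let ex : X.left ⟶ (G ⊗ X).left := (lift (1 : X ⟶ G) (𝟙 X)).left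
  -- landing in the equaliser
  have hland : ∀ {Z : Over S} (g : Z ⟶ G) (z : Z ⟶ X),
      (∃ l, l ≫ y = (lift g z).left) ↔ lift g z ≫ a.act = z := fun {Z} g z => by
    constructor
    · rintro ⟨l, hl⟩
      have h1 : (l ≫ pullback.fst δ.left c.left) ≫ δ.left = (lift g z).left ≫ c.left := by
        rw [Category.assoc, pullback.condition, ← Category.assoc, hl]
      let q : Z ⟶ X := Over.homMk (l ≫ pullback.fst δ.left c.left) (by
        rw [← Over.w δ, ← Category.assoc, h1, Category.assoc, Over.w c]
        exact Over.w (lift g z))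
      have h2 : q ≫ δ = lift g z ≫ c := Over.OverMorphism.ext h1
      have h3 := congrArg (· ≫ fst X X) h2
      have h4 := congrArg (· ≫ snd X X) h2
      simp [δ, c] at h3 h4
      rw [← h3, h4]
    · intro h
      have h2 : z ≫ δ = lift g z ≫ c := by
        apply CartesianMonoidalCategory.hom_ext <;> simp [δ, c, h]
      exact ⟨pullback.lift z.left (lift g z).left (congrArg CommaMorphism.left h2), pullback.lift_snd _ _ _⟩
  have hone : ∀ {Z : Over S} (z : Z ⟶ X), lift (1 : Z ⟶ G) z ≫ a.act = z := fun {Z} z => by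
    have := a.one_act
    have e : lift (1 : Z ⟶ G) z = (z ≫ (λ_ X).inv) ≫ (η[G] ▷ X) := by
      apply CartesianMonoidalCategory.hom_ext
      · rw [lift_fst, Category.assoc, Category.assoc, whiskerRight_fst, Hom.one_def, ← Category.assoc,
          ← Category.assoc]
        congr 1
        exact toUnit_unique _ _
      · simp
    rw [e, Category.assoc, a.one_act, Category.assoc, Iso.inv_hom_id, Category.comp_id]
  -- the open set where the equaliser is closed
  let W : (G ⊗ X).left.Opens := y.coborderRange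
  have hexW : ∀ x : X.left, ex x ∈ W := fun x => by
    obtain ⟨l, hl⟩ := (hland (1 : X ⟶ G) (𝟙 X)).2 (hone (𝟙 X))
    show ex x ∈ coborder (Set.range y)
    refine subset_coborder ⟨l x, ?_⟩
    rw [← Scheme.Hom.comp_apply, hl]
  -- the charts
  have piece : ∀ x : X.left, ∃ (A : CommRingCat.{u}) (j : Spec A ⟶ X.left) (T : Scheme.{u}) (i : T ⟶ Spec A),
      IsOpenImmersion j ∧ x ∈ Set.range j ∧ IsClosedImmersion i ∧ LocallyOfFinitePresentation i ∧
      ∀ (S' : Scheme.{u}) (v : S' ⟶ Spec A), Lands f y (𝟙 _) (v ≫ j) ↔ ∃ w, w ≫ i = v := by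
    intro x
    obtain ⟨X₀, hX₀, hxX₀, -⟩ :=
      exists_isAffineOpen_mem_and_subset (U := (⊤ : X.left.Opens)) (show x ∈ (⊤ : X.left.Opens) from trivial)
    have hfex : ex ≫ f = 𝟙 _ := by
      show (lift (1 : X ⟶ G) (𝟙 X) ≫ snd G X).left = _
      rw [lift_snd]; rfl
    obtain ⟨V₀, hV₀, hxV₀, hV₀W⟩ :=
      exists_isAffineOpen_mem_and_subset (U := W ⊓ f ⁻¹ᵁ X₀) (show ex x ∈ W ⊓ f ⁻¹ᵁ X₀ from
        ⟨hexW x, by show f (ex x) ∈ X₀; rw [← Scheme.Hom.comp_apply, hfex]; exact hxX₀⟩)
    obtain ⟨r, hr, hxr⟩ := hX₀.exists_basicOpen_le (V := ex ⁻¹ᵁ V₀) ⟨x, hxV₀⟩ hxX₀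
    let X' := X.left.basicOpen r
    have hX' : IsAffineOpen X' := hX₀.basicOpen r
    let V := V₀ ⊓ f ⁻¹ᵁ X'
    have hV : IsAffineOpen V := by
      have hle : V₀ ≤ f ⁻¹ᵁ X₀ := le_inf_iff.1 hV₀W |>.2
      have e : V = (G ⊗ X).left.basicOpen ((G ⊗ X).left.presheaf.map (homOfLE hle).op (f.app X₀ r)) := by
        rw [Scheme.basicOpen_res, ← Scheme.preimage_basicOpen]
      rw [e]
      exact hV₀.basicOpen _
    let A := Γ(X.left, X')
    let j : Spec A ⟶ X.left := hX'.fromSpec
    let q : Spec A ⟶ S := j ≫ X.hom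
    let G' : Over (Spec A) := Red.bc q G
    haveI : Flat G'.hom := inferInstanceAs (Flat (pullback.snd G.hom q))
    haveI : LocallyOfFinitePresentation G'.hom :=
      inferInstanceAs (LocallyOfFinitePresentation (pullback.snd G.hom q))
    have hconn'' := Groth.L25.Extension.isConnected_fibre_bc q G hconn'
    let jX : Over.mk q ⟶ X := Over.homMk j rfl
    let ι' : G'.left ⟶ (G ⊗ X).left := (G ◁ jX).left
    haveI : IsOpenImmersion jX.left := inferInstanceAs (IsOpenImmersion j)
    haveI : IsOpenImmersion ι' :=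
      MorphismProperty.of_isPullback (Groth.L19.ClopenScheme.isPullback_whiskerLeft G jX).flip inferInstance
    have hι'f : ι' ≫ f = G'.hom ≫ j := by
      show (G ◁ jX ≫ snd G X).left = _
      rw [whiskerLeft_snd]; rfl
    let e' : Spec A ⟶ G'.left := (lift (1 : Over.mk q ⟶ G) (𝟙 _)).left
    have he'ι : e' ≫ ι' = j ≫ ex := by
      show (lift (1 : Over.mk q ⟶ G) (𝟙 _) ≫ G ◁ jX).left = (jX ≫ lift (1 : X ⟶ G) (𝟙 X)).left
      rw [lift_whiskerLeft, comp_lift, MonObj.comp_one, Category.id_comp, Category.comp_id]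
    have he'h : e' ≫ G'.hom = 𝟙 _ := by
      show (lift (1 : Over.mk q ⟶ G) (𝟙 _) ≫ snd _ _).left = _
      rw [lift_snd]; rfl
    have hVrange : V ≤ ι'.opensRange := by
      intro z hz
      obtain ⟨b, hb⟩ : f z ∈ Set.range j := by rw [hX'.range_fromSpec]; exact hz.2
      have sq := Groth.L19.ClopenScheme.isPullback_whiskerLeft G jX
      obtain ⟨w, hw, -⟩ := Scheme.Pullback.exists_preimage_pullback (f := f) (g := j) z b hb.symm
      refine ⟨sq.isoPullback.inv w, ?_⟩
      rw [← Scheme.Hom.comp_apply, show sq.isoPullback.inv ≫ ι' = pullback.fst _ _ from sq.isoPullback_inv_fst]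
      exact hw
    have hV' : IsAffineOpen (ι' ⁻¹ᵁ V) := hV.preimage_of_isOpenImmersion ι' hVrange
    have he'V : ∀ b, e' b ∈ ι' ⁻¹ᵁ V := fun b => by
      show ι' (e' b) ∈ V
      rw [← Scheme.Hom.comp_apply, he'ι, Scheme.Hom.comp_apply]
      have hb : j b ∈ X' := by
        show j b ∈ (X' : Set X.left)
        rw [← hX'.range_fromSpec]; exact ⟨b, rfl⟩
      refine ⟨hr hb, ?_⟩
      show f (ex (j b)) ∈ X'
      rw [← Scheme.Hom.comp_apply ex f, hfex]
      exact hb
    let V' := ι' ⁻¹ᵁ V
    let B := Γ(G'.left, V')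
    let jV : Spec B ⟶ G'.left := hV'.fromSpec
    obtain ⟨φ, hφ⟩ : ∃ φ : A ⟶ B, Spec.map φ = jV ≫ G'.hom := ⟨_, Spec.map_preimage _⟩
    letI : Algebra A B := φ.hom.toAlgebra
    have hφ' : jV ≫ G'.hom = Spec.map (CommRingCat.ofHom (algebraMap A B)) := hφ.symm
    haveI : Flat (Spec.map φ) := by rw [hφ]; infer_instance
    haveI : LocallyOfFinitePresentation (Spec.map φ) := by rw [hφ]; infer_instance
    haveI : Module.Flat A B := by
      have := (HasRingHomProperty.Spec_iff (P := @Flat)).1 (inferInstance : Flat (Spec.map φ))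
      exact RingHom.flat_algebraMap_iff.1 this
    haveI : Algebra.FinitePresentation A B := by
      have := (LocallyOfFinitePresentation.SpecMap_iff φ).1 inferInstance
      exact RingHom.finitePresentation_algebraMap.1 this
    have hpure : FlatCA.IsUnivPure A B B := isUnivPure_of_oneAss fun K _ _ =>
      oneAss_fibre G' hconn'' jV hφ' (fun s => by
        have hm : e' s ∈ Set.range jV := by rw [hV'.range_fromSpec]; exact he'V s
        obtain ⟨z, hz⟩ := hm
        exact ⟨z, by rw [Scheme.Hom.comp_apply, hz, ← Scheme.Hom.comp_apply, he'h]; rfl⟩) K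
    haveI : Module.Projective A B :=
      Groth.L20.RG.projective_of_isPure (A := A) (B := B) B (fun p _ A' B' N' _ _ _ _ _ _ _ _ _ _ _ _ _ _ g t' t _ _ P _ _ =>
        hpure p A' B' N' g t' t P)
    let gV : Spec B ⟶ (G ⊗ X).left := jV ≫ ι'
    let i := pullback.snd y gV
    haveI : IsClosedImmersion i := by
      refine IsClosedImmersion.of_isPreimmersion _ ?_
      rw [Scheme.Pullback.range_snd]
      have hgW : ∀ b, gV b ∈ W := fun b => by
        have hb : jV b ∈ (V' : Set G'.left) := by rw [← hV'.range_fromSpec]; exact ⟨b, rfl⟩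
        rw [Scheme.Hom.comp_apply]
        exact (hV₀W hb.1).1
      have : gV ⁻¹' Set.range y = (fun b => (⟨gV b, hgW b⟩ : coborder (Set.range y))) ⁻¹'
          (Subtype.val ⁻¹' Set.range y) := rfl
      rw [this]
      exact isClosed_preimage_val_coborder.preimage (Continuous.subtype_mk gV.continuous _)
    obtain ⟨Z, t, ht, htfp, hZ⟩ := exists_weilLocus_free (f := Spec.map (CommRingCat.ofHom (algebraMap A B))) (j := i)
      Groth.L06.PureLocus.isEssentiallyFree_spec
    refine ⟨A, j, Z, t, inferInstance, ?_, ht, htfp ⟨inferInstance, inferInstance⟩, fun S' v => ?_⟩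
    · rw [hX'.range_fromSpec]; exact hxr
    refine Iff.trans ?_ (hZ S' v).symm
    let p := pullback.fst (Spec.map (CommRingCat.ofHom (algebraMap A B))) v
    have hp : p ≫ gV ≫ f = pullback.snd _ v ≫ v ≫ j := by
      rw [show gV ≫ f = jV ≫ ι' ≫ f from Category.assoc _ _ _, hι'f, ← Category.assoc jV, hφ', ← Category.assoc p,
        pullback.condition, Category.assoc]
    constructor
    · rintro ⟨l, hl⟩
      refine ⟨pullback.lift (pullback.lift (p ≫ gV) (pullback.snd _ _) ((Category.assoc _ _ _).trans hp) ≫ l) p ?_,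
        ?_⟩
      · rw [Category.assoc, hl, pullback.lift_fst_assoc, Category.comp_id]
      · exact (pullback.lift_snd _ _ _).trans (Category.comp_id _).symm
    · rintro ⟨l₀, hl₀⟩
      -- points of the piece fix
      have hfixV : ∀ {Y : Over (Spec A)} (u : Y.left ⟶ S') (hu : u ≫ v = Y.hom) (b : Y ⟶ G'),
          (∀ z, b.left z ∈ V') →
          lift (NilAction.toBase q b) (Over.homMk (U := Over.mk (Y.hom ≫ q)) (V := X) (Y.hom ≫ j) (Category.assoc _ _ _)) ≫
            a.act = Over.homMk (U := Over.mk (Y.hom ≫ q)) (V := X) (Y.hom ≫ j) (Category.assoc _ _ _) := by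
        intro Y u hu b hb
        refine (hland _ _).1 ?_
        have hbr : Set.range b.left ⊆ Set.range jV := by
          rintro _ ⟨z, rfl⟩
          rw [hV'.range_fromSpec]; exact hb z
        let b' := IsOpenImmersion.lift jV b.left hbr
        have hb' : b' ≫ Spec.map (CommRingCat.ofHom (algebraMap A B)) = u ≫ v := by
          rw [← hφ', IsOpenImmersion.lift_fac_assoc, hu]
          exact Over.w b
        refine ⟨pullback.lift b' u hb' ≫ l₀ ≫ pullback.fst _ _, ?_⟩
        rw [Category.assoc, Category.assoc, pullback.condition, ← Category.assoc l₀, hl₀, Category.comp_id,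
          pullback.lift_fst_assoc]
        show b' ≫ jV ≫ ι' = _
        rw [IsOpenImmersion.lift_fac_assoc]
        have e : b.left ≫ ι' = (lift (NilAction.toBase q b)
            (Over.homMk (U := Over.mk (Y.hom ≫ q)) (V := X) (Y.hom ≫ j) (Category.assoc _ _ _))).left := by
          apply (IsPullback.of_hasPullback G.hom X.hom).hom_ext
          · show b.left ≫ ι' ≫ (fst G X).left = (lift (NilAction.toBase q b) _ ≫ fst G X).left
            rw [lift_fst]
            show b.left ≫ (G ◁ jX ≫ fst G X).left = _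
            rw [whiskerLeft_fst]
            rfl
          · show b.left ≫ ι' ≫ f = (lift (NilAction.toBase q b) _ ≫ snd G X).left
            rw [lift_snd, hι'f, ← Category.assoc, show b.left ≫ G'.hom = Y.hom from Over.w b]
            rfl
        exact e
      let T' := pullback f (v ≫ j)
      let u : T' ⟶ S' := pullback.snd f (v ≫ j)
      let gz : Over.mk ((u ≫ v) ≫ q) ⟶ G ⊗ X := Over.homMk (pullback.fst f (v ≫ j)) (by
        rw [← Over.w (snd G X)]
        show pullback.fst f (v ≫ j) ≫ f ≫ X.hom = _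
        rw [pullback.condition_assoc]
        simp only [u, q, Over.mk_hom, Category.assoc])
      let z : Over.mk ((u ≫ v) ≫ q) ⟶ X := Over.homMk ((u ≫ v) ≫ j) (Category.assoc _ _ _)
      have hz : gz ≫ snd G X = z := Over.OverMorphism.ext (by
        show pullback.fst f (v ≫ j) ≫ f = (u ≫ v) ≫ j
        rw [pullback.condition, Category.assoc])
      obtain ⟨g, hg⟩ : ∃ g, g = gz ≫ fst G X := ⟨_, rfl⟩
      let h : Over.mk (u ≫ v) ⟶ G' := NilAction.ofBase q (Y := Over.mk (u ≫ v)) g
      obtain ⟨Y, cY, a₁, a₂, hce, hcf, hcl, hcs, h₁, h₂, hmul⟩ := exists_mul_cover_fppf hconn'' V'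
        (fun s => ⟨e' s, he'V s, by rw [← Scheme.Hom.comp_apply, he'h]; rfl⟩) h
      let z' : Over.mk (Y.hom ≫ q) ⟶ X := Over.homMk (Y.hom ≫ j) (Category.assoc _ _ _)
      let cS : Over.mk (Y.hom ≫ q) ⟶ Over.mk ((u ≫ v) ≫ q) :=
        Over.homMk cY.left (by rw [← Over.w cY]; exact (Category.assoc _ _ _).symm)
      have hcz : cS ≫ z = z' := Over.OverMorphism.ext (by
        show cY.left ≫ (u ≫ v) ≫ j = Y.hom ≫ j
        rw [← Category.assoc, show cY.left ≫ u ≫ v = Y.hom from Over.w cY])
      have hfix := fix_mul a z' (hfixV (cY.left ≫ u) ((Category.assoc _ _ _).trans (Over.w cY)) a₁ h₁)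
        (hfixV (cY.left ≫ u) ((Category.assoc _ _ _).trans (Over.w cY)) a₂ h₂)
      rw [← NilAction.toBase_mul, ← hmul] at hfix
      have htb : NilAction.toBase q (cY ≫ h) = cS ≫ g := Over.OverMorphism.ext (by
        show (cY.left ≫ h.left) ≫ pullback.fst G.hom q = cY.left ≫ g.left
        rw [Category.assoc]
        congr 1
        exact pullback.lift_fst _ _ _)
      rw [htb, ← hcz, ← comp_lift, Category.assoc] at hfix
      haveI : Flat cS.left := hcf
      haveI : Surjective cS.left := hcs
      haveI : Epi cS.left := Flat.epi_of_flat_of_surjective cY.left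
      haveI : Epi cS := Over.epi_of_epi_left cS
      obtain ⟨l, hl⟩ := (hland g z).2 ((cancel_epi cS).1 hfix)
      refine ⟨l, hl.trans ?_⟩
      rw [← hz, hg, lift_comp_fst_snd]
      exact (Category.comp_id _).symm
  choose A j Ts is hj hjx his hlfp hiff using piece
  obtain ⟨F, t, ht, htfp, hF⟩ := exists_closed_of_pieces (f := f) (y := y) (a := 𝟙 _) A j
    (fun x => by haveI := hj x; infer_instance) (fun x => by haveI := hj x; infer_instance)
    (fun x => ⟨x, hjx x⟩) Ts is his hiff True fun _ x => hlfp x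
  refine ⟨F, t, ht, htfp trivial, fun T x => (hF T.left x.left).trans ⟨?_, fun h => ?_⟩⟩
  · rintro ⟨l, hl⟩ T' t' g
    refine (hland g (t' ≫ x)).1 ⟨pullback.lift (lift g (t' ≫ x)).left t'.left ?_ ≫ l, ?_⟩
    · show (lift g (t' ≫ x) ≫ snd G X).left = _
      rw [lift_snd]; rfl
    · rw [Category.assoc, hl, pullback.lift_fst_assoc, Category.comp_id]
  · let T' : Over S := Over.mk (pullback.snd f x.left ≫ T.hom)
    let t' : T' ⟶ T := Over.homMk (pullback.snd f x.left) rfl
    let gz : T' ⟶ G ⊗ X := Over.homMk (pullback.fst f x.left) (by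
      rw [← Over.w (snd G X)]
      show pullback.fst f x.left ≫ f ≫ X.hom = _
      rw [pullback.condition_assoc, Over.w x]
      rfl)
    have hz : gz ≫ snd G X = t' ≫ x := Over.OverMorphism.ext pullback.condition
    obtain ⟨l, hl⟩ := (hland (gz ≫ fst G X) (t' ≫ x)).2 (h T' t' _)
    refine ⟨l, hl.trans ?_⟩
    rw [← hz, lift_comp_fst_snd]
    exact (Category.comp_id _).symm

end Groth.L20.FixLocus
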