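import Groth.Prelude.Def_FlatCA
import Groth.Prelude.Def_CAlg
import Groth.Agent.L20.RG.AssCover
import Groth.Agent.L20.RG.Smooth
import Groth.Agent.L14.LciH1
import Groth.Agent.S3029
import Groth.Agent.L02.CMMor.Local
import Groth.Agent.L08.Borel.CartanNhd

/-!
# Purity of open pieces of group schemes with connected fibres
-/

set_option autoImplicit false
set_option backward.isDefEq.respectTransparency.types false
set_option linter.style.haveILetI false
universe u

open CategoryTheory CategoryTheory.Limits AlgebraicGeometry MonoidalCategory CartesianMonoidalCategory MonObj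
open scoped TensorProduct

noncomputable section

namespace Groth.L20.FixLocus

/-- a ring whose nilradical is prime and is its only associated prime -/
def OneAss (C : Type u) [CommRing C] : Prop :=
  (nilradical C).IsPrime ∧ ∀ p ∈ associatedPrimes C C, p = nilradical C

theorem OneAss.of_ringEquiv {C D : Type u} [CommRing C] [CommRing D] (e : C ≃+* D) (h : OneAss C) : OneAss D := by
  have hn : (nilradical C).comap e.symm.toRingHom = nilradical D := by
    ext x
    simp only [Ideal.mem_comap, mem_nilradical]
    exact IsNilpotent.map_iff e.symm.injective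
  haveI := h.1
  refine ⟨hn ▸ Ideal.IsPrime.comap _, fun p hp => ?_⟩
  obtain ⟨hpp, w, hw⟩ := hp
  rw [← hn, ← h.2 (p.comap e.toRingHom) ⟨Ideal.IsPrime.comap _, e.symm w, ?_⟩]
  · ext x
    simp only [Ideal.mem_comap, RingEquiv.toRingHom_eq_coe, RingHom.coe_coe, RingEquiv.apply_symm_apply]
  · ext x
    simp only [hw, Ideal.mem_comap, Ideal.mem_radical_iff, Submodule.mem_colon_singleton, Submodule.mem_bot,
      RingEquiv.toRingHom_eq_coe, RingHom.coe_coe, smul_eq_mul]
    refine exists_congr fun n => ⟨fun h0 => ?_, fun h0 => ?_⟩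
    · exact e.injective (by rw [map_mul, map_pow, RingEquiv.apply_symm_apply, map_zero, h0])
    · rw [← map_pow, ← e.apply_symm_apply w, ← map_mul, h0, map_zero]

/-- fibres with a single associated prime, flatness: purity -/
theorem isUnivPure_of_oneAss {A B : Type u} [CommRing A] [CommRing B] [Algebra A B] [Algebra.FiniteType A B]
    [Module.Flat A B] (h : ∀ (K : Type u) [Field K] [Algebra A K], OneAss (K ⊗[A] B)) :
    FlatCA.IsUnivPure A B B := by
  intro p _ A' B' N' _ _ _ _ _ _ _ _ _ _ _ _ _ _ f t' t _ _ P _ himp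
  obtain ⟨hpush, hbc, hle, -, hPt', hass, hno⟩ := himp
  haveI := hpush
  haveI := hPt'
  haveI : Algebra.IsPushout A A' B B' := Algebra.IsPushout.symm hpush
  haveI : Module.Flat A' B' := Module.Flat.isBaseChange A A' B B' (inferInstance : Algebra.IsPushout A A' B B').out
  have hone : ∀ (s : Ideal A') [s.IsPrime], OneAss (s.Fiber B') := fun s _ => by
    let e : TensorProduct A' s.ResidueField B' ≃ₐ[A'] TensorProduct A s.ResidueField B :=
      (Algebra.TensorProduct.congr (AlgEquiv.refl (R := A') (A₁ := s.ResidueField))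
        (Algebra.IsPushout.equiv A A' B B').symm).trans
        ((Algebra.TensorProduct.cancelBaseChange A A' s.ResidueField s.ResidueField B).restrictScalars A')
    exact (h s.ResidueField).of_ringEquiv e.toRingEquiv.symm
  letI : Algebra B' (t'.Fiber B') := Algebra.TensorProduct.rightAlgebra
  let eN : B' ≃ₗ[B'] N' := (TensorProduct.AlgebraTensorModule.rid B B' B').symm.trans hbc.equiv
  let eF : FlatCA.fiberMod t' B' N' ≃ₗ[t'.Fiber B'] t'.Fiber B' :=
    (TensorProduct.AlgebraTensorModule.congr (LinearEquiv.refl (t'.Fiber B') (t'.Fiber B')) eN.symm).trans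
      (TensorProduct.AlgebraTensorModule.rid B' (t'.Fiber B') (t'.Fiber B'))
  rw [LinearEquiv.AssociatedPrimes.eq eF] at hass
  have hbot := (hone t').2 _ hass
  -- a point of the fibre over `t`, and a generisation over `t'`
  haveI := (hone t).1
  let Q : Ideal B' := (nilradical (t.Fiber B')).comap
    (Algebra.TensorProduct.includeRight (R := A') (A := t.ResidueField) (B := B')).toRingHom
  haveI hQ : Q.LiesOver t := ⟨(congrArg (fun q => q.asIdeal)
    ((PrimeSpectrum.preimageEquivFiber A' B' ⟨t, inferInstance⟩).symm ⟨nilradical (t.Fiber B'), inferInstance⟩).2).symm⟩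
  obtain ⟨Q', hQ'le, hQ'p, hQ'o⟩ := Ideal.exists_ideal_le_liesOver_of_le (p := t') (q := t) Q hle
  haveI := hQ'p; haveI := hQ'o
  refine hno Q (fun x hx => hQ'le ?_) hQ
  obtain ⟨q, hq⟩ : ∃ q : PrimeSpectrum (t'.Fiber B'), ((PrimeSpectrum.preimageEquivFiber A' B' ⟨t', inferInstance⟩).symm q).1 =
      ⟨Q', inferInstance⟩ :=
    ⟨PrimeSpectrum.preimageEquivFiber A' B' ⟨t', inferInstance⟩ ⟨⟨Q', inferInstance⟩,
      PrimeSpectrum.ext hQ'o.over.symm⟩, by rw [Equiv.symm_apply_apply]⟩
  have hxq : (Algebra.TensorProduct.includeRight (R := A') (A := t'.ResidueField) (B := B')).toRingHom x ∈ q.asIdeal :=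
    (hbot.trans_le (nilradical_le_prime q.asIdeal)) (Ideal.mem_map_of_mem _ hx)
  exact (congrArg PrimeSpectrum.asIdeal hq).le hxq

/-- an open affine piece of a connected group over a field has a single associated prime -/
theorem oneAss_of_open {k : Type u} [Field k] (H : Over (Spec (CommRingCat.of k))) [GrpObj H]
    [LocallyOfFiniteType H.hom] [ConnectedSpace H.left] {C : Type u} [CommRing C] [Nontrivial C]
    (m : Spec (CommRingCat.of C) ⟶ H.left) [IsOpenImmersion m] : OneAss C := by
  haveI : IsLocallyNoetherian H.left := LocallyOfFiniteType.isLocallyNoetherian H.hom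
  haveI : IsLocallyNoetherian (Spec (CommRingCat.of C)) := isLocallyNoetherian_of_isOpenImmersion m
  haveI : IsNoetherianRing C := isLocallyNoetherian_Spec.1 ‹_›
  haveI : IrreducibleSpace H.left := Groth.L25.Component.irreducibleSpace _
  haveI hirr : IrreducibleSpace (PrimeSpectrum C) := by
    haveI : Nonempty (PrimeSpectrum C) := inferInstance
    haveI : PreirreducibleSpace (PrimeSpectrum C) := by
      refine ⟨?_⟩
      have := (PreirreducibleSpace.isPreirreducible_univ (X := H.left)).preimage m.isOpenEmbedding
      exact this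
    exact ⟨inferInstance⟩
  have hnil : (nilradical C).IsPrime := PrimeSpectrum.irreducibleSpace_iff_isPrime_nilradical.1 hirr
  haveI : LocCoh.IsCohenMacaulayRing C := ⟨fun p hp => by
    let x : Spec (CommRingCat.of C) := (⟨p, hp⟩ : PrimeSpectrum C)
    haveI := Groth.Agent.S3029.result k H (m x)
    letI : Algebra C ((Spec (CommRingCat.of C)).presheaf.stalk x) := StructureSheaf.stalkAlgebra C x
    haveI : IsLocalization.AtPrime ((Spec (CommRingCat.of C)).presheaf.stalk x) p :=
      StructureSheaf.IsLocalization.to_stalk C x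
    exact L02.CMMor.cm_of_ringEquiv
      (((asIso (m.stalkMap x)).commRingCatIsoToRingEquiv).trans
        (IsLocalization.algEquiv p.primeCompl ((Spec (CommRingCat.of C)).presheaf.stalk x)
          (Localization.AtPrime p)).toRingEquiv) inferInstance⟩
  refine ⟨hnil, fun p hp => ?_⟩
  haveI := hnil
  have h1 := Groth.L14.LciH1.associated_minimal_of_CM p hp
  haveI := hp.isPrime
  exact le_antisymm (h1.2 ⟨hnil, bot_le⟩ (nilradical_le_prime p)) (nilradical_le_prime p)

end Groth.L20.FixLocus
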